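import Cfsg.Agent.H516.OddFrame
import Cfsg.Agent.H436.TwoRu
import Cfsg.Agent.H148.Ru.CentSeven
import Cfsg.Agent.NotCT.Orders

/-!
# S4094, S4095, S4096, S3842 : the odd row of the Rudvalis group (helper296)

The odd part of `|C(b)|` is at most `3375 < 2 ^ 14` for the elements `b` of odd prime order.
-/

set_option autoImplicit false

namespace Cfsg.Agent.H296.Fr

open Subgroup Cfsg

universe u

/-- isomorphisms and centralizers -/
theorem card_cent_equiv {L M : Type*} [Group L] [Group M] (f : L ≃* M) (b : L) :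
    Nat.card ↥(centralizer ({b} : Set L)) = Nat.card ↥(centralizer ({f b} : Set M)) := by
  have h : (centralizer ({b} : Set L)).map f.toMonoidHom = centralizer ({f b} : Set M) := by
    ext x
    constructor
    · rintro ⟨y, hy, rfl⟩
      rw [mem_centralizer_singleton_iff]
      change f y * f b = f b * f y
      rw [← map_mul, ← map_mul, mem_centralizer_singleton_iff.1 hy]
    · intro hx
      refine ⟨f.symm x, ?_, f.apply_symm_apply x⟩
      refine mem_centralizer_singleton_iff.2 ?_
      apply f.injective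
      rw [map_mul, map_mul, f.apply_symm_apply]
      exact mem_centralizer_singleton_iff.1 hx
  rw [← h]
  exact Nat.card_congr ((centralizer ({b} : Set L)).equivMapOfInjective f.toMonoidHom f.injective).toEquiv

/-- two prime orders are not adjacent if the centralizers of the elements of one of them are known -/
theorem not_dvd_of_cent {M : Type*} [Group M] [Finite M] {r s m : ℕ} (hr : r.Prime)
    (hc : ∀ y : M, orderOf y = r → Nat.card ↥(centralizer ({y} : Set M)) ∣ m) (hs : ¬ s ∣ m) {x : M} (hx : orderOf x = s) :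
    ¬ r ∣ Nat.card ↥(centralizer ({x} : Set M)) := by
  intro h
  have hf : Fact r.Prime := ⟨hr⟩
  obtain ⟨y, hy⟩ := exists_prime_orderOf_dvd_card' (G := ↥(centralizer ({x} : Set M))) r h
  rw [← Subgroup.orderOf_coe] at hy
  have h1 : x ∈ centralizer ({(y : M)} : Set M) :=
    mem_centralizer_singleton_iff.2 (mem_centralizer_singleton_iff.1 y.2).symm
  have h2 := Subgroup.orderOf_dvd_natCard _ h1
  rw [hx] at h2
  exact hs (h2.trans (hc y hy))

namespace Ru

open Cfsg.Agent.SporadicB Cfsg.Agent.H436.TwoRu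

theorem even_seven (x : RuOrder.H) (hx : orderOf x = 7) : 2 ∣ Nat.card ↥(centralizer ({x} : Set RuOrder.H)) := by
  have := finite_H
  have hf7 : Fact (Nat.Prime 7) := ⟨by norm_num⟩
  obtain ⟨C, -⟩ := KFacts.Ru.exists_core isoH
  obtain ⟨a, ha⟩ := exists_ne
  have hv := RuB.Local.card_cent_v (C := C) ha
  obtain ⟨y, hy⟩ := exists_prime_orderOf_dvd_card' (G := ↥(centralizer ({C.v a} : Set RuOrder.H))) 7
    (by rw [hv]; norm_num)
  rw [← Subgroup.orderOf_coe] at hy
  rw [card_eq_of (by norm_num) (by norm_num) hx hy]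
  have h4 : C.v a ∈ centralizer ({(y : RuOrder.H)} : Set RuOrder.H) := by
    rw [mem_centralizer_singleton_iff]
    exact (mem_centralizer_singleton_iff.1 y.2).symm
  have h5 : orderOf (C.v a) = 2 := orderOf_eq_prime (by rw [pow_two]; exact C.v_sq a)
    (fun h => ha (C.v_eq_one h))
  have := Subgroup.orderOf_dvd_natCard _ h4
  rwa [h5] at this

theorem cent7 (x : RuOrder.H) (hx : orderOf x = 7) : Nat.card ↥(centralizer ({x} : Set RuOrder.H)) ∣ 7 * 4 := by
  have := finite_H
  have h1 : Nat.card ↥(centralizer ({x} : Set RuOrder.H)) ≤ 28 := by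
    rw [card_eq_of (by norm_num) (by norm_num) hx H148.Ru.orderC, cen_eq]
    exact H148.Ru.card_C
  have h2 : 7 ∣ Nat.card ↥(centralizer ({x} : Set RuOrder.H)) := by
    have h3 : x ∈ centralizer ({x} : Set RuOrder.H) := mem_centralizer_singleton_iff.2 rfl
    have := Subgroup.orderOf_dvd_natCard _ h3
    rwa [hx] at this
  have h3 : 14 ∣ Nat.card ↥(centralizer ({x} : Set RuOrder.H)) :=
    Nat.Coprime.mul_dvd_of_dvd_of_dvd (by norm_num : Nat.Coprime 2 7) (even_seven x hx) h2
  obtain ⟨c, hc⟩ := h3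
  have hc0 : Nat.card ↥(centralizer ({x} : Set RuOrder.H)) ≠ 0 := Nat.card_pos.ne'
  rw [hc] at h1 hc0 ⊢
  have hc2 : c ≤ 2 := by omega
  interval_cases c
  · omega
  all_goals norm_num

/-- elements of order 3 or 5 -/
theorem cent35 (x : RuOrder.H) (hx : orderOf x = 3 ∨ orderOf x = 5) :
    Nat.card ↥(centralizer ({x} : Set RuOrder.H)) ∣ 2 ^ 14 * 3375 := by
  have := finite_H
  have h0 : Nat.card ↥(centralizer ({x} : Set RuOrder.H)) ∣ Nat.card RuOrder.H := Subgroup.card_subgroup_dvd_card _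
  rw [card_H] at h0
  have key : ∀ r m : ℕ, r.Prime → (∀ y : RuOrder.H, orderOf y = r → Nat.card ↥(centralizer ({y} : Set RuOrder.H)) ∣ m) →
      ¬ 3 ∣ m → ¬ 5 ∣ m → ¬ r ∣ Nat.card ↥(centralizer ({x} : Set RuOrder.H)) := by
    intro r m hr hc h3 h5
    rcases hx with hx | hx
    · exact not_dvd_of_cent hr hc h3 hx
    · exact not_dvd_of_cent hr hc h5 hx
  have h7 := key 7 (7 * 4) (by norm_num) cent7 (by norm_num) (by norm_num)
  have h13 := key 13 (13 * 4) (by norm_num) cent13 (by norm_num) (by norm_num)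
  have h29 := key 29 (29 * 1) (by norm_num) cent29 (by norm_num) (by norm_num)
  generalize Nat.card ↥(centralizer ({x} : Set RuOrder.H)) = c at h0 h7 h13 h29
  have e : (145926144000 : ℕ) = 7 * (13 * (29 * (2 ^ 14 * 3375))) := by norm_num
  rw [e] at h0
  have g7 : Nat.Coprime c 7 := ((Nat.Prime.coprime_iff_not_dvd (by norm_num)).2 h7).symm
  have g13 : Nat.Coprime c 13 := ((Nat.Prime.coprime_iff_not_dvd (by norm_num)).2 h13).symm
  have g29 : Nat.Coprime c 29 := ((Nat.Prime.coprime_iff_not_dvd (by norm_num)).2 h29).symm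
  exact g29.dvd_of_dvd_mul_left (g13.dvd_of_dvd_mul_left (g7.dvd_of_dvd_mul_left h0))

theorem odd_part (x : RuOrder.H) (hx : (orderOf x).Prime) (h2 : orderOf x ≠ 2) : ∃ j m : ℕ,
    Nat.card ↥(centralizer ({x} : Set RuOrder.H)) ∣ 2 ^ j * m ∧ m ≠ 0 ∧ m < 2 ^ 14 := by
  have := finite_H
  have hd : orderOf x ∣ 2 ^ 14 * (3 ^ 3 * (5 ^ 3 * (7 * (13 * 29)))) := by
    have h1 := orderOf_dvd_natCard x
    rw [card_H] at h1
    exact h1
  have pc : ∀ n k : ℕ, n.Prime → orderOf x ∣ n ^ k → orderOf x = n := fun n k hn h =>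
    (Nat.prime_dvd_prime_iff_eq hx hn).1 (hx.dvd_of_dvd_pow h)
  rcases (Nat.Prime.dvd_mul hx).1 hd with h | hd
  · exact absurd (pc 2 14 Nat.prime_two h) h2
  rcases (Nat.Prime.dvd_mul hx).1 hd with h | hd
  · exact ⟨14, 3375, cent35 x (Or.inl (pc 3 3 Nat.prime_three h)), by norm_num, by norm_num⟩
  rcases (Nat.Prime.dvd_mul hx).1 hd with h | hd
  · exact ⟨14, 3375, cent35 x (Or.inr (pc 5 3 (by norm_num) h)), by norm_num, by norm_num⟩
  rcases (Nat.Prime.dvd_mul hx).1 hd with h | hd
  · refine ⟨0, 28, ?_, by norm_num, by norm_num⟩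
    have := cent7 x ((Nat.prime_dvd_prime_iff_eq hx (by norm_num)).1 h)
    simpa using this
  rcases (Nat.Prime.dvd_mul hx).1 hd with h | h
  · refine ⟨0, 52, ?_, by norm_num, by norm_num⟩
    have := cent13 x ((Nat.prime_dvd_prime_iff_eq hx (by norm_num)).1 h)
    simpa using this
  · refine ⟨0, 29, ?_, by norm_num, by norm_num⟩
    have := cent29 x ((Nat.prime_dvd_prime_iff_eq hx (by norm_num)).1 h)
    simpa using this

/-- **The odd row of the Rudvalis group.** -/
theorem row {L : Type u} [Group L] [Finite L] (h : Spor.IsoRu L) {p : ℕ} {a : MulAut L} {b : L}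
    (S : Cfsg.Agent.H516.Sit p a b) : False := by
  have hcard := NotCT.Orders.ru h
  obtain ⟨e⟩ := h
  let f : L ≃* RuOrder.H := e.trans RuLat.Main.equiv
  have ho : orderOf (f b) = orderOf b := MulEquiv.orderOf_eq f b
  obtain ⟨j, m, h1, h2, h3⟩ := odd_part (f b) (by rw [ho]; exact S.bprime) (by rw [ho]; exact S.b_ne_two)
  rw [← card_cent_equiv f b] at h1
  exact S.false_of_dvd (k := 14) (by rw [hcard]; norm_num) h1 h2 h3

end Ru

end Cfsg.Agent.H296.Fr
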